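import Groth.Agent.CurveCohLib.Skyscraper
import Groth.Agent.CurveCohLib.Euler
import Groth.Agent.GeomField.GlobalFunctions
import Groth.Agent.QCoh.SubCompare
import Groth.Agent.SmoothReg.Scheme
import Groth.Agent.Lib.CurveSlope
import Groth.Agent.QCoh.Devissage
import Groth.Prelude.Def_ClSub2
import Mathlib.AlgebraicGeometry.ValuativeCriterion
import Mathlib.AlgebraicGeometry.FunctionField

/-! The complement of an affine open in an integral proper scheme of dimension at least two is connected. -/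

noncomputable section

set_option linter.style.haveILetI false
set_option linter.unusedSectionVars false
set_option backward.isDefEq.respectTransparency false
set_option backward.isDefEq.respectTransparency.types false

universe u

open CategoryTheory CategoryTheory.Limits AlgebraicGeometry TopologicalSpace Opposite
open Groth.Agent.PnCoh.Finite (mapLin deltaLin)

namespace Groth.Agent.ConnCompl

open Groth.Agent

variable (k : Type u) [Field k] {X : Scheme.{u}} [X.Over (Spec (CommRingCat.of k))]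

/-- The constants in the sections over an open. -/
def const (U : X.Opens) : k →+* Γ(X, U) :=
  (X.presheaf.map (homOfLE (le_top : U ≤ ⊤)).op).hom.comp (Coh.toGlobal (X ↘ Spec (CommRingCat.of k)))

theorem const_res {U V : X.Opens} (h : V ≤ U) :
    (X.presheaf.map (homOfLE h).op).hom.comp (const k U) = const k (X := X) V := by
  ext a
  exact (congr(($(X.presheaf.map_comp (homOfLE (le_top : U ≤ ⊤)).op (homOfLE h).op)) (Coh.toGlobal (X ↘ Spec (CommRingCat.of k)) a))).symm

theorem res_eval₂ {U V : X.Opens} (h : V ≤ U) (M : Polynomial k) (r : Γ(X, U)) :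
    X.presheaf.map (homOfLE h).op (M.eval₂ (const k U) r) =
      M.eval₂ (const k V) (X.presheaf.map (homOfLE h).op r) := by
  rw [← const_res k h]
  exact Polynomial.hom_eval₂ M (const k U) (X.presheaf.map (homOfLE h).op).hom r

theorem isIntegral_vanishing {T : Set X} (hTc : IsClosed T) (hT : IsIrreducible T) :
    IsIntegral (Scheme.IdealSheafData.vanishingIdeal ⟨T, hTc⟩).subscheme := by
  obtain ⟨ξ, hξ⟩ := QuasiSober.sober hT hTc
  rw [show (⟨T, hTc⟩ : Closeds X) = Closeds.closure {ξ} from Closeds.ext hξ.def.symm]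
  exact QCoh.isIntegral_closure_point ξ

variable [IsProper (X ↘ Spec (CommRingCat.of k))]

/-- A function on a neighbourhood of an irreducible closed set is either invertible or zero along it, and
algebraic over the base field. -/
theorem eval_irreducible {T : Set X} (hTc : IsClosed T) (hT : IsIrreducible T) {V : X.Opens} (hTV : T ⊆ V)
    (h : Γ(X, V)) :
    (∀ x ∈ T, ∀ y ∈ T, x ∈ X.basicOpen h → y ∈ X.basicOpen h) ∧
      ∃ M : Polynomial k, M.Monic ∧ ∀ x ∈ T, x ∉ X.basicOpen (M.eval₂ (const k V) h) := by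
  let W : X.IdealSheafData := Scheme.IdealSheafData.vanishingIdeal ⟨T, hTc⟩
  have hrange : Set.range W.subschemeι = T := by
    rw [Scheme.IdealSheafData.range_subschemeι, Scheme.IdealSheafData.coe_support_vanishingIdeal]
    rfl
  haveI : IsIntegral W.subscheme := isIntegral_vanishing hTc hT
  letI : W.subscheme.Over (Spec (CommRingCat.of k)) := ⟨W.subschemeι ≫ (X ↘ Spec (CommRingCat.of k))⟩
  haveI : IsProper (W.subscheme ↘ Spec (CommRingCat.of k)) :=
    inferInstanceAs (IsProper (W.subschemeι ≫ (X ↘ Spec (CommRingCat.of k))))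
  haveI := GeomField.finite_globalFunctions (k := k) (X := W.subscheme)
  have hle : ⊤ ≤ W.subschemeι ⁻¹ᵁ V := fun w _ => hTV (hrange ▸ Set.mem_range_self w)
  let r : Γ(X, V) →+* Γ(W.subscheme, ⊤) := (W.subschemeι.appLE V ⊤ hle).hom
  have hfield := isField_of_universallyClosed k (W.subscheme ↘ Spec (CommRingCat.of k))
  have hbasic : ∀ (g : Γ(X, V)) (w : W.subscheme), W.subschemeι w ∈ X.basicOpen g ↔ w ∈ W.subscheme.basicOpen (r g) := by
    intro g w
    show _ ↔ w ∈ W.subscheme.basicOpen (W.subscheme.presheaf.map (homOfLE hle).op (W.subschemeι.app V g))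
    rw [Scheme.basicOpen_res, ← Scheme.preimage_basicOpen]
    exact ⟨fun h' => ⟨trivial, h'⟩, fun h' => h'.2⟩
  refine ⟨fun x hx y hy hxh => ?_, ?_⟩
  · rw [← hrange] at hx hy
    obtain ⟨w, rfl⟩ := hx
    obtain ⟨w', rfl⟩ := hy
    rw [hbasic] at hxh ⊢
    have hne : r h ≠ 0 := fun h0 => by
      rw [h0, Scheme.basicOpen_zero] at hxh
      exact hxh
    obtain ⟨b, hb⟩ := hfield.mul_inv_cancel hne
    rw [Scheme.basicOpen_of_isUnit _ (.of_mul_eq_one b hb)]
    trivial
  · letI := GeomField.globalAlgebra k W.subscheme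
    haveI := GeomField.algebraMap_integral k W.subscheme
    have hint : _root_.IsIntegral k (r h) := Algebra.IsIntegral.isIntegral (r h)
    obtain ⟨M, hM, hMe⟩ := hint
    refine ⟨M, hM, fun x hx hmem => ?_⟩
    rw [← hrange] at hx
    obtain ⟨w, rfl⟩ := hx
    rw [hbasic] at hmem
    have h0 : r (M.eval₂ (const k V) h) = 0 := by
      rw [Polynomial.hom_eval₂]
      refine Eq.trans ?_ hMe
      congr 1
      ext a
      show W.subscheme.presheaf.map (homOfLE hle).op (W.subschemeι.app V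
        (X.presheaf.map (homOfLE (le_top : V ≤ ⊤)).op (Coh.toGlobal (X ↘ Spec (CommRingCat.of k)) a))) = _
      rw [show W.subschemeι.app V (X.presheaf.map (homOfLE (le_top : V ≤ ⊤)).op (Coh.toGlobal (X ↘ Spec (CommRingCat.of k)) a)) =
        W.subscheme.presheaf.map ((Opens.map W.subschemeι.base).map (homOfLE (le_top : V ≤ ⊤))).op
          (W.subschemeι.appTop (Coh.toGlobal (X ↘ Spec (CommRingCat.of k)) a)) from
        congr(($(W.subschemeι.naturality (homOfLE (le_top : V ≤ ⊤)).op)) _),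
        ← CommRingCat.comp_apply, ← Functor.map_comp]
      exact congr(($(W.subscheme.presheaf.map_id _)) _)
    rw [h0, Scheme.basicOpen_zero] at hmem
    exact hmem

theorem exists_vanishing_poly {T : Set X} (hTc : IsClosed T) {V : X.Opens} (hTV : T ⊆ V) (h : Γ(X, V)) :
    ∃ M : Polynomial k, M.Monic ∧ ∀ x ∈ T, x ∉ X.basicOpen (M.eval₂ (const k V) h) := by
  classical
  haveI := CurveCohLib.isNoetherian_of_proper (k := k) (X := X)
  obtain ⟨S, hS⟩ := NoetherianSpace.exists_finset_irreducible (⟨T, hTc⟩ : Closeds X)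
  obtain ⟨hSirr, hSeq⟩ := hS
  have hsub : ∀ C ∈ S, (C : Set X) ⊆ T := fun C hC => (le_of_le_of_eq (Finset.le_sup (f := id) hC) hSeq.symm : _)
  have hev : ∀ C : {C // C ∈ S}, ∃ M : Polynomial k, M.Monic ∧
      ∀ x ∈ (C.1 : Set X), x ∉ X.basicOpen (M.eval₂ (const k V) h) := fun C =>
    (eval_irreducible k C.1.isClosed (hSirr ⟨C.1, C.2⟩) ((hsub C.1 C.2).trans hTV) h).2
  choose M hM hMx using hev
  refine ⟨∏ C, M C, Polynomial.monic_prod_of_monic _ _ fun C _ => hM C, fun x hx hmem => ?_⟩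
  have hx' : x ∈ ((S.sup id : Closeds X) : Set X) := hSeq ▸ hx
  rw [Closeds.coe_finset_sup] at hx'
  simp only [Finset.sup_set_eq_biUnion, Set.mem_iUnion] at hx'
  obtain ⟨C, hC, hxC⟩ := hx'
  rw [← Finset.mul_prod_erase Finset.univ M (Finset.mem_univ ⟨C, hC⟩), Polynomial.eval₂_mul, Scheme.basicOpen_mul] at hmem
  exact hMx ⟨C, hC⟩ x hxC hmem.1

/-- Restricting `η : O → j_* O_U` to a pushed forward section. -/
theorem exists_section [IsIntegral X] (U : X.Opens) (hU : IsAffineOpen U) (hne : (U : Set X).Nonempty)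
    {Z₁ Z₂ : Set X} (h₁ : IsClosed Z₁) (h₂ : IsClosed Z₂) (hd : Disjoint Z₁ Z₂) (hu : Z₁ ∪ Z₂ = (U : Set X)ᶜ)
    (hne₁ : Z₁.Nonempty) :
    ∃ g₁ : Γ(X, ⟨Z₁ᶜ, h₁.isOpen_compl⟩), ∀ M : Polynomial k, M.Monic →
      M.eval₂ (const k _) g₁ ≠ 0 := by
  classical
  let U₁ : X.Opens := ⟨Z₁ᶜ, h₁.isOpen_compl⟩
  let U₂ : X.Opens := ⟨Z₂ᶜ, h₂.isOpen_compl⟩
  have hU1 : U ≤ U₁ := fun x hx h => (hu ▸ Set.mem_union_left _ h : x ∈ (U : Set X)ᶜ) hx
  have hU2 : U ≤ U₂ := fun x hx h => (hu ▸ Set.mem_union_right _ h : x ∈ (U : Set X)ᶜ) hx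
  have h12 : U₁ ⊓ U₂ ≤ U := fun x hx => by
    by_contra hxU
    rcases (hu.symm ▸ hxU : x ∈ Z₁ ∪ Z₂) with h | h
    · exact hx.1 h
    · exact hx.2 h
  have hcov : ∀ x : X, x ∈ U₁ ∨ x ∈ U₂ := fun x => by
    by_cases h : x ∈ Z₁
    · exact Or.inr (fun h' => hd.ne_of_mem h h' rfl)
    · exact Or.inl h
  haveI : IsAffine U.toScheme := hU
  haveI : X.IsSeparated := by
    constructor
    rw [← terminal.comp_from (X ↘ Spec (CommRingCat.of k))]
    infer_instance
  haveI : IsAffineHom (U.ι ≫ terminal.from X) := isAffineHom_of_isAffine _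
  haveI : IsAffineHom U.ι := IsAffineHom.of_comp U.ι (terminal.from X)
  haveI := CurveCohLib.isNoetherian_of_proper (k := k) (X := X)
  haveI hneU : Nonempty ↥U.toScheme := ⟨⟨_, hne.choose_spec⟩⟩
  let J : X.Modules := (Scheme.Modules.pushforward U.ι).obj (Coh.structureModule U.toScheme)
  let η : Coh.structureModule X ⟶ J := ClSub.unitToPush U.ι
  have hbij : ∀ W : X.Opens, W ≤ U → Function.Bijective (η.app W) := fun W hW => by
    show Function.Bijective (U.ι.app W)
    haveI : IsIso (U.ι.app W) := Scheme.Hom.isIso_app U.ι W (by rwa [Scheme.Opens.opensRange_ι])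
    exact ConcreteCategory.bijective_of_isIso _
  have hinjη : ∀ W : X.Opens, Function.Injective (U.ι.app W) := fun W s t hst => by
    by_cases hW : ((W : Set X) ∩ U).Nonempty
    · haveI : Nonempty ↥(W ⊓ U).toScheme := ⟨⟨_, hW.choose_spec⟩⟩
      refine map_injective_of_isIntegral X (homOfLE (inf_le_left : W ⊓ U ≤ W)) ((hbij (W ⊓ U) inf_le_right).1 ?_)
      show U.ι.app (W ⊓ U) _ = U.ι.app (W ⊓ U) _
      rw [← CommRingCat.comp_apply, ← CommRingCat.comp_apply, U.ι.naturality, CommRingCat.comp_apply,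
        CommRingCat.comp_apply, hst]
    · have hW0 : W = ⊥ := by
        refine Opens.ext (Set.eq_empty_iff_forall_notMem.2 fun x hx => hW ?_)
        exact nonempty_preirreducible_inter W.2 U.2 ⟨x, hx⟩ hne
      subst hW0
      exact Subsingleton.elim (α := Γ(X, ⊥)) _ _
  haveI : Mono η := Preadditive.mono_of_cancel_zero _ fun {P} g hg => Scheme.Modules.hom_ext _ _ fun W => by
    ext z
    refine hinjη W ?_
    refine Eq.trans ?_ (map_zero (U.ι.app W).hom).symm
    exact congr(($hg).app W z)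
  let π := cokernel.π η
  let Q := cokernel η
  have hS := CurveSlope.shortExact_cokernel_of_mono η
  let rJ : ∀ {V W : X.Opens} (_ : W ≤ V), Γ(J, V) →+ Γ(J, W) := fun {V W} h => (J.presheaf.map (homOfLE h).op).hom
  let rQ : ∀ {V W : X.Opens} (_ : W ≤ V), Γ(Q, V) →+ Γ(Q, W) := fun {V W} h => (Q.presheaf.map (homOfLE h).op).hom
  have hπr : ∀ {V W : X.Opens} (h : W ≤ V) (s : Γ(J, V)), rQ h (π.app V s) = π.app W (rJ h s) := fun h s =>
    (QCoh.map_app_comm π (homOfLE h) s).symm
  have hηr : ∀ {V W : X.Opens} (h : W ≤ V) (s : Γ(X, V)),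
      rJ h (η.app V s) = η.app W (X.presheaf.map (homOfLE h).op s) := fun h s => (QCoh.map_app_comm η (homOfLE h) s).symm
  have hrr : ∀ {V W W' : X.Opens} (h : W ≤ V) (h' : W' ≤ W) (z : Γ(J, V)), rJ h' (rJ h z) = rJ (h'.trans h) z :=
    fun h h' z => (congr(($(J.presheaf.map_comp (homOfLE h).op (homOfLE h').op)) z)).symm
  have hπ0 : ∀ (W : X.Opens), W ≤ U → ∀ s : Γ(J, W), π.app W s = 0 := fun W hW s => by
    obtain ⟨a, rfl⟩ := (hbij W hW).2 s
    exact congr(($(cokernel.condition η)).app W a)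
  have hex : ∀ (W : X.Opens) (s : Γ(J, W)), π.app W s = 0 → ∃ a : Γ(X, W), η.app W a = s :=
    fun W s h => (QCoh.mem_range_iff_cokernel η W s).1 h
  -- global sections of `J` are functions on `U`
  have hψex : ∀ s : Γ(J, ⊤), ∃ a : Γ(X, U), η.app U a = rJ le_top s := fun s => (hbij U le_rfl).2 _
  choose ψ hψ using hψex
  have hsurj : ∀ a : Γ(X, U), ∃ s : Γ(J, ⊤), ψ s = a := fun a => by
    obtain ⟨b, hb⟩ : ∃ b : Γ(J, ⊤), rJ (le_top : U ≤ ⊤) b = η.app U a := by
      have e : U.ι ⁻¹ᵁ U = U.ι ⁻¹ᵁ ⊤ := by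
        ext z
        exact ⟨fun _ => trivial, fun _ => z.2⟩
      refine ⟨U.toScheme.presheaf.map (homOfLE e.ge).op (η.app U a), ?_⟩
      show U.toScheme.presheaf.map _ (U.toScheme.presheaf.map _ _) = _
      rw [← CommRingCat.comp_apply, ← Functor.map_comp]
      exact congr(($(U.toScheme.presheaf.map_id _)) _)
    exact ⟨b, (hbij U le_rfl).1 ((hψ b).trans hb)⟩
  choose lift hlift using hsurj
  -- the class with support near `Z₁`
  have hq : ∀ a : Γ(X, U), ∃ q : Γ(Q, ⊤), rQ le_top q = π.app U₂ (rJ le_top (lift a)) ∧ rQ (le_top : U₁ ≤ ⊤) q = 0 := by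
    intro a
    let F : ULift.{u} Bool → X.Opens := fun i => if i.down then U₂ else U₁
    let sf : ∀ i, Γ(Q, F i) := fun i => match i with
      | ⟨true⟩ => π.app U₂ (rJ le_top (lift a))
      | ⟨false⟩ => 0
    have hcompat : ∀ i j, rQ inf_le_left (sf i) = rQ (inf_le_right : F i ⊓ F j ≤ F j) (sf j) := by
      rintro ⟨_ | _⟩ ⟨_ | _⟩
      · rfl
      · show rQ _ (0 : Γ(Q, U₁)) = rQ _ (π.app U₂ _)
        rw [map_zero, hπr]
        exact (hπ0 _ h12 _).symm
      · show rQ _ (π.app U₂ _) = rQ _ (0 : Γ(Q, U₁))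
        rw [map_zero, hπr]
        exact hπ0 _ (le_of_eq_of_le (inf_comm _ _) h12) _
      · rfl
    obtain ⟨q, hq, -⟩ := TopCat.Sheaf.existsUnique_gluing' ⟨Q.presheaf, Q.isSheaf⟩ F ⊤ (fun i => homOfLE le_top)
      (fun x _ => by
        rcases hcov x with h | h
        · exact Opens.mem_iSup.2 ⟨⟨false⟩, h⟩
        · exact Opens.mem_iSup.2 ⟨⟨true⟩, h⟩) sf hcompat
    exact ⟨q, hq ⟨true⟩, hq ⟨false⟩⟩
  choose q hq2 hq1 using hq
  -- a function on `U` not integral at a point of `Z₁`
  obtain ⟨p, hp⟩ := hne₁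
  let j : X.presheaf.stalk p →+* X.functionField := (X.presheaf.stalkSpecializes (genericPoint_specializes p)).hom
  haveI : Nontrivial X.functionField := inferInstance
  obtain ⟨V, hV⟩ := (LocalSubring.range j).exists_le_valuationSubring
  obtain ⟨hVle, hVloc⟩ := hV
  have hjV : ∀ z, j z ∈ V := fun z => hVle ⟨z, rfl⟩
  have hηU : genericPoint X ∈ U := ((genericPoint_spec X).mem_open_set_iff U.2).2 (by rwa [Set.univ_inter])
  let germU : Γ(X, U) →+* X.functionField := (X.presheaf.germ U (genericPoint X) hηU).hom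
  obtain ⟨g, hg⟩ : ∃ g : Γ(X, U), germU g ∉ V := by
    by_contra hall
    push Not at hall
    let a : Spec (CommRingCat.of V) ⟶ X := Spec.map (CommRingCat.ofHom (germU.codRestrict V hall)) ≫ hU.fromSpec
    let b : Spec (CommRingCat.of V) ⟶ X := Spec.map (CommRingCat.ofHom (j.codRestrict V hjV)) ≫ X.fromSpecStalk p
    haveI : IsDominant (Spec.map (CommRingCat.ofHom V.subtype)) :=
      ⟨(PrimeSpectrum.denseRange_comap_iff_ker_le_nilRadical (f := V.subtype)).2 (by
        rw [(RingHom.injective_iff_ker_eq_bot _).1 Subtype.val_injective]; exact bot_le)⟩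
    have hab : a = b := by
      refine ext_of_isDominant (Spec.map (CommRingCat.ofHom V.subtype)) ?_
      show _ ≫ _ ≫ _ = _ ≫ _ ≫ _
      rw [← Category.assoc, ← Category.assoc, ← Spec.map_comp, ← Spec.map_comp]
      show Spec.map (X.presheaf.germ U (genericPoint X) hηU) ≫ hU.fromSpec =
        Spec.map (X.presheaf.stalkSpecializes (genericPoint_specializes p)) ≫ X.fromSpecStalk p
      rw [Scheme.SpecMap_stalkSpecializes_fromSpecStalk, ← hU.fromSpecStalk_eq_fromSpecStalk hηU]
      rfl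
    haveI : IsLocalHom (j.codRestrict V hjV) := by
      refine ⟨fun z hz => ?_⟩
      haveI := hVloc
      have h1 : IsUnit (⟨j z, z, rfl⟩ : (LocalSubring.range j).toSubring) :=
        IsUnit.of_map (Subring.inclusion hVle) _ hz
      obtain ⟨⟨_, w, rfl⟩, hw⟩ := h1.exists_right_inv
      refine isUnit_iff_exists_inv.2 ⟨w, ?_⟩
      exact IsFractionRing.injective (X.presheaf.stalk p) X.functionField (by
        rw [map_mul, map_one]; exact congrArg Subtype.val hw)
    have hcp : a (IsLocalRing.closedPoint V) = p := by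
      rw [hab]
      show (X.fromSpecStalk p) (Spec.map (CommRingCat.ofHom (j.codRestrict V hjV)) (IsLocalRing.closedPoint V)) = p
      rw [show Spec.map (CommRingCat.ofHom (j.codRestrict V hjV)) (IsLocalRing.closedPoint V) = IsLocalRing.closedPoint _ from
        IsLocalRing.comap_closedPoint (f := j.codRestrict V hjV), Scheme.fromSpecStalk_closedPoint]
    have hmem : p ∈ (U : Set X) := by
      rw [← hcp, ← hU.range_fromSpec]
      exact Set.mem_range_self _
    exact (hu ▸ Set.mem_union_left _ hp : p ∈ (U : Set X)ᶜ) hmem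
  -- a relation in the finite-dimensional `H¹`
  have hηk : ∀ c : k, X.presheaf.germ U (genericPoint X) hηU (const k U c) =
      j (X.presheaf.germ ⊤ p trivial (Coh.toGlobal (X ↘ Spec (CommRingCat.of k)) c)) := fun c => by
    show _ = X.presheaf.stalkSpecializes _ (X.presheaf.germ ⊤ p trivial _)
    rw [TopCat.Presheaf.germ_stalkSpecializes_apply]
    exact TopCat.Presheaf.germ_res_apply _ _ _ _ _
  haveI := CurveCohLib.finite_HH (k := k) (QCoh.isCoh_structureModule' (X := X)) 1
  let n := Module.finrank k (Coh.HH X (Coh.structureModule X) 1)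
  let e0 := Sheaf.H.equiv₀ (Coh.toAb Q) (isTerminalTop : IsTerminal (⊤ : X.Opens))
  let v : Fin (n + 1) → Coh.HH X (Coh.structureModule X) 1 := fun i =>
    deltaLin k hS 0 (e0.symm (q (g ^ (i.1 + 1))))
  have hdep : ¬ LinearIndependent k v := fun hli => by
    have h := hli.fintype_card_le_finrank
    rw [Fintype.card_fin] at h
    omega
  obtain ⟨c, hc, i₀, hi₀⟩ := Fintype.not_linearIndependent_iff.1 hdep
  let t : Coh.HH X Q 0 := ∑ i, c i • e0.symm (q (g ^ (i.1 + 1)))
  obtain ⟨s, hs⟩ := (CurveCohLib.ker_deltaLin k hS 0).le (LinearMap.mem_ker.2 (show deltaLin k hS 0 t = 0 by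
    rw [map_sum]
    simp only [map_smul]
    exact hc))
  let s' : Γ(J, ⊤) := Sheaf.H.equiv₀ (Coh.toAb J) (isTerminalTop : IsTerminal (⊤ : X.Opens)) s
  have hs' : π.app ⊤ s' = ∑ i, (show Γ(X, ⊤) from Coh.toGlobal (X ↘ Spec (CommRingCat.of k)) (c i)) • (show Γ(Q, ⊤) from q (g ^ (i.1 + 1))) := by
    have h1 : π.app ⊤ s' = e0 t :=
      (Sheaf.H.equiv₀_naturality isTerminalTop ((QCoh.toAbFunctor X).map π) s).trans (congrArg e0 hs)
    rw [h1, map_sum]
    refine Finset.sum_congr rfl fun i _ => ?_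
    rw [CurveCohLib.h0Equiv_smul]
    congr 1
    · exact congr(($(X.presheaf.map_id (op ⊤))) _)
    · exact AddEquiv.apply_symm_apply _ _
  let P : Polynomial k := ∑ i : Fin (n + 1), Polynomial.monomial (i.1 + 1) (c i)
  let L : Γ(J, ⊤) := ∑ i, (show Γ(X, ⊤) from Coh.toGlobal (X ↘ Spec (CommRingCat.of k)) (c i)) • lift (g ^ (i.1 + 1))
  have hrQs : ∀ {W : X.Opens} (a : Γ(X, ⊤)) (z : Γ(Q, ⊤)),
      rQ (le_top : W ≤ ⊤) (a • z) = X.presheaf.map (homOfLE le_top).op a • rQ le_top z :=
    fun {W} a z => Scheme.Modules.map_smul Q (homOfLE (le_top : W ≤ ⊤)) a z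
  have hrJs : ∀ {W : X.Opens} (a : Γ(X, ⊤)) (z : Γ(J, ⊤)),
      rJ (le_top : W ≤ ⊤) (a • z) = X.presheaf.map (homOfLE le_top).op a • rJ le_top z :=
    fun {W} a z => Scheme.Modules.map_smul J (homOfLE (le_top : W ≤ ⊤)) a z
  have hψL : ψ L = P.eval₂ (const k U) g := by
    refine (hbij U le_rfl).1 ?_
    rw [hψ]
    simp only [L, P, map_sum, Polynomial.eval₂_finsetSum, Polynomial.eval₂_monomial]
    refine Finset.sum_congr rfl fun i _ => ?_
    rw [hrJs, ← hψ, hlift]
    exact (Scheme.Modules.Hom.app_smul η _ _).symm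
  have hr2 : π.app U₂ (rJ le_top (s' - L)) = 0 := by
    rw [← hπr, map_sub, map_sub, hs', sub_eq_zero]
    simp only [L, map_sum]
    refine Finset.sum_congr rfl fun i _ => ?_
    rw [hrQs, hq2]
    refine Eq.trans ?_ (congrArg (rQ le_top) (Scheme.Modules.Hom.app_smul π _ _)).symm
    rw [hrQs, hπr]
  obtain ⟨a₂, ha₂⟩ := hex U₂ _ hr2
  have hr1 : π.app U₁ (rJ le_top s') = 0 := by
    rw [← hπr, hs', map_sum]
    refine Finset.sum_eq_zero fun i _ => ?_
    rw [hrQs, hq1, smul_zero]
  obtain ⟨g₁, hg₁⟩ := hex U₁ _ hr1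
  have hg₁U : X.presheaf.map (homOfLE hU1).op g₁ = ψ s' := (hbij U le_rfl).1 (by
    rw [← hηr, hg₁, hrr, hψ])
  have ha₂U : ψ s' = X.presheaf.map (homOfLE hU2).op a₂ + P.eval₂ (const k U) g := by
    refine (hbij U le_rfl).1 ?_
    rw [map_add, ← hψL, hψ, hψ, ← hηr, ha₂, hrr, ← map_add, sub_add_cancel]
  refine ⟨g₁, fun M hM hM0 => ?_⟩
  have hpU₂ : p ∈ U₂ := fun h' => hd.ne_of_mem hp h' rfl
  have hkV : ∀ c : k, germU (const k U c) ∈ V := fun c => by
    show X.presheaf.germ U (genericPoint X) hηU (const k U c) ∈ V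
    rw [hηk]; exact hjV _
  have hpoly : ∀ (M : Polynomial k) (z : Γ(X, U)), germU z ∈ V → germU (M.eval₂ (const k U) z) ∈ V := by
    intro M z hz
    rw [Polynomial.hom_eval₂, Polynomial.eval₂_eq_sum_range]
    exact sum_mem fun i _ => V.mul_mem _ _ (hkV _) (pow_mem hz i)
  have hpoly' : ∀ (M : Polynomial k) (z : Γ(X, U)), M ≠ 0 → 0 < M.natDegree → germU (M.eval₂ (const k U) z) ∈ V →
      germU z ∈ V := by
    intro M z hM0 hdeg hmem
    let M' : Polynomial X.functionField := (M * Polynomial.C M.leadingCoeff⁻¹).map (germU.comp (const k U))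
    let w : X.functionField := M'.eval (germU z)
    have hw : w ∈ V := by
      simp only [w, M', Polynomial.eval_map, Polynomial.eval₂_mul, Polynomial.eval₂_C, ← Polynomial.hom_eval₂]
      exact V.mul_mem _ _ hmem (hkV _)
    have hM' : M'.Monic := (Polynomial.monic_mul_leadingCoeff_inv hM0).map _
    have hdeg' : 0 < M'.natDegree := by
      rw [(Polynomial.monic_mul_leadingCoeff_inv hM0).natDegree_map,
        Polynomial.natDegree_mul_C (inv_ne_zero (Polynomial.leadingCoeff_ne_zero.2 hM0))]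
      exact hdeg
    have hsub : (M' - Polynomial.C w).Monic := hM'.sub_of_left (by
      refine lt_of_le_of_lt Polynomial.degree_C_le ?_
      rwa [← Polynomial.natDegree_pos_iff_degree_pos])
    have hint : IsIntegral V (germU z) := by
      have hl : (M' - Polynomial.C w) ∈ Polynomial.lifts (algebraMap V X.functionField) := by
        refine (Polynomial.lifts_iff_coeff_lifts _).2 fun i => ?_
        rw [Polynomial.coeff_sub, Polynomial.coeff_map, Polynomial.coeff_C]
        refine ⟨⟨_, sub_mem (hkV _) ?_⟩, rfl⟩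
        split
        · exact hw
        · exact zero_mem _
      obtain ⟨Mq, hMq, -, hMqm⟩ := Polynomial.lifts_and_degree_eq_and_monic hl hsub
      exact ⟨Mq, hMqm, by rw [← Polynomial.eval_map, hMq]; simp [w]⟩
    obtain ⟨y, hy⟩ := IsIntegrallyClosedIn.algebraMap_eq_of_integral hint
    rw [← hy]
    exact y.2
  have hPg : germU (P.eval₂ (const k U) g) ∉ V := by
    intro hmem
    have hPc : P.coeff (i₀.1 + 1) = c i₀ := by
      simp only [P, Polynomial.finsetSum_coeff, Polynomial.coeff_monomial, add_left_inj]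
      rw [Finset.sum_eq_single i₀ (fun b _ hb => if_neg fun h => hb (Fin.ext h)) (by simp), if_pos rfl]
    refine hg (hpoly' P g (fun h0 => hi₀ (by rw [← hPc, h0, Polynomial.coeff_zero])) ?_ hmem)
    exact lt_of_lt_of_le (Nat.succ_pos _) (Polynomial.le_natDegree_of_ne_zero (hPc ▸ hi₀))
  have hs'V : germU (ψ s') ∉ V := by
    intro hmem
    refine hPg ?_
    rw [show P.eval₂ (const k U) g = ψ s' - X.presheaf.map (homOfLE hU2).op a₂ by rw [ha₂U, add_sub_cancel_left], map_sub]
    refine sub_mem hmem ?_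
    show X.presheaf.germ U (genericPoint X) hηU (X.presheaf.map (homOfLE hU2).op a₂) ∈ V
    rw [TopCat.Presheaf.germ_res_apply,
      show X.presheaf.germ U₂ (genericPoint X) (hU2 hηU) a₂ = j (X.presheaf.germ U₂ p hpU₂ a₂) from
        (TopCat.Presheaf.germ_stalkSpecializes_apply _ _ _ _).symm]
    exact hjV _
  have hdeg : 0 < M.natDegree := by
    by_contra h0
    rw [hM.natDegree_eq_zero.1 (Nat.eq_zero_of_not_pos h0), Polynomial.eval₂_one] at hM0
    haveI : Nonempty ↥U₁.toScheme := ⟨⟨_, hU1 hne.choose_spec⟩⟩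
    exact one_ne_zero hM0
  refine hs'V (hpoly' M (ψ s') hM.ne_zero hdeg ?_)
  rw [← hg₁U, ← res_eval₂, hM0, map_zero, map_zero]
  exact V.zero_mem

include k in
theorem main [IsIntegral X] (hst : ∀ x : X, IsClosed ({x} : Set X) → 2 ≤ ringKrullDim (X.presheaf.stalk x))
    (U : X.Opens) (hU : IsAffineOpen U) (hne : (U : Set X).Nonempty) (hUX : U ≠ ⊤) :
    IsConnected ((U : Set X)ᶜ) := by
  classical
  haveI := CurveCohLib.isNoetherian_of_proper (k := k) (X := X)
  haveI : X.IsSeparated := by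
    constructor
    rw [← terminal.comp_from (X ↘ Spec (CommRingCat.of k))]
    infer_instance
  have hne' : ((U : Set X)ᶜ).Nonempty :=
    Set.nonempty_compl.2 fun h => hUX (Opens.ext (by rw [h, Opens.coe_top]))
  refine ⟨hne', isPreconnected_closed_iff.2 fun A B hA hB hsub hA' hB' => ?_⟩
  by_contra hAB
  let Z₁ : Set X := (U : Set X)ᶜ ∩ A
  let Z₂ : Set X := (U : Set X)ᶜ ∩ B
  have h₁ : IsClosed Z₁ := U.2.isClosed_compl.inter hA
  have h₂ : IsClosed Z₂ := U.2.isClosed_compl.inter hB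
  have hd : Disjoint Z₁ Z₂ := Set.disjoint_left.2 fun x hx hx' => hAB ⟨x, hx.1, hx.2, hx'.2⟩
  have hu : Z₁ ∪ Z₂ = (U : Set X)ᶜ :=
    Set.Subset.antisymm (Set.union_subset Set.inter_subset_left Set.inter_subset_left)
      fun x hx => (hsub hx).imp (fun h => ⟨hx, h⟩) (fun h => ⟨hx, h⟩)
  have key : ∀ {Z Z' : Set X} (hZ : IsClosed Z) (hZ' : IsClosed Z'), Disjoint Z Z' → Z ∪ Z' = (U : Set X)ᶜ → Z.Nonempty →
      ∃ h : Γ(X, ⟨Zᶜ, hZ.isOpen_compl⟩), h ≠ 0 ∧ ∀ x ∈ Z', x ∉ X.basicOpen h := by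
    intro Z Z' hZ hZ' hd hu hZne
    obtain ⟨g₁, hg₁⟩ := exists_section k U hU hne hZ hZ' hd hu hZne
    obtain ⟨M, hM, hMv⟩ := exists_vanishing_poly k hZ' (V := ⟨Zᶜ, hZ.isOpen_compl⟩)
      (fun x hx h => hd.ne_of_mem h hx rfl) g₁
    exact ⟨_, hg₁ M hM, hMv⟩
  obtain ⟨h1, h1ne, h1z⟩ := key h₁ h₂ hd hu hA'
  obtain ⟨h2, h2ne, h2z⟩ := key h₂ h₁ hd.symm ((Set.union_comm _ _).trans hu) hB'
  let U₁ : X.Opens := ⟨Z₁ᶜ, h₁.isOpen_compl⟩
  let U₂ : X.Opens := ⟨Z₂ᶜ, h₂.isOpen_compl⟩
  have hU1 : U ≤ U₁ := fun x hx h => (hu ▸ Set.mem_union_left _ h : x ∈ (U : Set X)ᶜ) hx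
  have hU2 : U ≤ U₂ := fun x hx h => (hu ▸ Set.mem_union_right _ h : x ∈ (U : Set X)ᶜ) hx
  let a := X.presheaf.map (homOfLE hU1).op h1
  let b := X.presheaf.map (homOfLE hU2).op h2
  haveI : Nonempty ↥U.toScheme := ⟨⟨_, hne.choose_spec⟩⟩
  haveI : JacobsonSpace X := LocallyOfFiniteType.jacobsonSpace (X ↘ Spec (CommRingCat.of k))
  have hpt : ∀ u : X, IsClosed ({u} : Set X) → u ∈ X.basicOpen h1 → u ∈ U → u ∉ X.basicOpen h2 := by
    intro u huc hu1 huU hu2
    obtain ⟨M, hM, hMu⟩ := exists_vanishing_poly k huc (V := U₁) (Set.singleton_subset_iff.2 (hU1 huU)) h1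
    obtain ⟨M', e, hMe, hM'0⟩ : ∃ (M' : Polynomial k) (e : ℕ), M = Polynomial.X ^ e * M' ∧ M'.coeff 0 ≠ 0 := by
      obtain ⟨M', hM', hdiv⟩ := Polynomial.exists_eq_pow_rootMultiplicity_mul_and_not_dvd M hM.ne_zero 0
      rw [Polynomial.C_0, sub_zero] at hM' hdiv
      exact ⟨M', _, hM', fun h => hdiv (Polynomial.X_dvd_iff.2 h)⟩
    have hu' : u ∉ X.basicOpen (M'.eval₂ (const k U₁) h1) := fun h => hMu u rfl (by
      rw [hMe, Polynomial.eval₂_mul, Polynomial.eval₂_pow, Polynomial.eval₂_X, Scheme.basicOpen_mul]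
      rcases Nat.eq_zero_or_pos e with rfl | he
      · rw [pow_zero, Scheme.basicOpen_of_isUnit _ isUnit_one]
        exact ⟨hU1 huU, h⟩
      · rw [X.basicOpen_pow h1 he]
        exact ⟨hu1, h⟩)
    -- a curve through `u`
    let f : Γ(X, U) := X.presheaf.map (homOfLE hU1).op (M'.eval₂ (const k U₁) h1)
    let P := hU.primeIdealOf ⟨u, huU⟩
    have hfP : f ∈ P.asIdeal := by
      by_contra hf
      have h' : P ∈ hU.fromSpec ⁻¹ᵁ X.basicOpen f := by
        rw [hU.fromSpec_preimage_basicOpen]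
        exact hf
      have h'' : hU.fromSpec P ∈ X.basicOpen f := h'
      rw [hU.fromSpec_primeIdealOf, Scheme.basicOpen_res] at h''
      exact hu' h''.2
    obtain ⟨Q, hQ, hQP⟩ := Ideal.exists_minimalPrimes_le ((Ideal.span_singleton_le_iff_mem _).2 hfP)
    haveI := hQ.1.1
    haveI : IsNoetherianRing Γ(X, U) := IsLocallyNoetherian.component_noetherian ⟨U, hU⟩
    have hQ1 : Q.height ≤ 1 := by
      haveI : (Ideal.span {f}).IsPrincipal := ⟨⟨f, rfl⟩⟩
      exact Ideal.height_le_one_of_isPrincipal_of_mem_minimalPrimes _ Q hQ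
    have hPh : (2 : WithBot ℕ∞) ≤ P.asIdeal.height := by
      letI := TopCat.Presheaf.algebra_section_stalk X.presheaf (⟨u, huU⟩ : U)
      haveI := hU.isLocalization_stalk ⟨u, huU⟩
      have h := hst u huc
      rwa [IsLocalization.AtPrime.ringKrullDim_eq_height P.asIdeal (X.presheaf.stalk u)] at h
    let ξ : X := hU.fromSpec ⟨Q, inferInstance⟩
    have hξu : ξ ⤳ u := by
      have h := ((PrimeSpectrum.le_iff_specializes (⟨Q, inferInstance⟩ : PrimeSpectrum Γ(X, U)) P).1 hQP).map hU.fromSpec.continuous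
      rwa [hU.fromSpec_primeIdealOf] at h
    have hξne : ξ ≠ u := fun h => by
      have h' : (⟨Q, inferInstance⟩ : PrimeSpectrum Γ(X, U)) = P :=
        hU.fromSpec.isOpenEmbedding.injective (h.trans (hU.fromSpec_primeIdealOf ⟨u, huU⟩).symm)
      rw [← h'] at hPh
      have h2 : (2 : WithBot ℕ∞) ≤ ((1 : ℕ∞) : WithBot ℕ∞) := hPh.trans (WithBot.coe_le_coe.2 hQ1)
      exact absurd (WithBot.coe_le_coe.1 h2) (by decide)
    have hξU : ξ ∈ U := by
      rw [← SetLike.mem_coe, ← hU.range_fromSpec]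
      exact Set.mem_range_self _
    have hξf : ξ ∉ X.basicOpen (M'.eval₂ (const k U₁) h1) := fun h => by
      have h' : ξ ∈ X.basicOpen f := by
        rw [Scheme.basicOpen_res]
        exact ⟨hξU, h⟩
      have h'' : (⟨Q, inferInstance⟩ : PrimeSpectrum Γ(X, U)) ∈ hU.fromSpec ⁻¹ᵁ X.basicOpen f := h'
      rw [hU.fromSpec_preimage_basicOpen] at h''
      exact h'' (hQ.1.2 (Ideal.mem_span_singleton_self f))
    let C : Set X := closure {ξ}
    have hCc : IsClosed C := isClosed_closure
    have hCirr : IsIrreducible C := isIrreducible_singleton.closure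
    have hξC : ξ ∈ C := subset_closure rfl
    have huC : u ∈ C := specializes_iff_mem_closure.1 hξu
    -- the curve is not inside `U`
    obtain ⟨p, hpC, hpU⟩ : ∃ p ∈ C, p ∉ U := by
      by_contra hall
      push Not at hall
      let W : X.IdealSheafData := Scheme.IdealSheafData.vanishingIdeal ⟨C, hCc⟩
      have hrange : Set.range W.subschemeι = C := by
        rw [Scheme.IdealSheafData.range_subschemeι, Scheme.IdealSheafData.coe_support_vanishingIdeal]
        rfl
      haveI : IsIntegral W.subscheme := isIntegral_vanishing hCc hCirr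
      have hWU : Set.range W.subschemeι ⊆ Set.range U.ι := by
        rw [hrange, Scheme.Opens.range_ι]
        exact hall
      let l := IsOpenImmersion.lift U.ι W.subschemeι hWU
      haveI : IsClosedImmersion (l ≫ U.ι) := by rw [IsOpenImmersion.lift_fac]; infer_instance
      haveI : IsClosedImmersion l := IsClosedImmersion.of_comp l U.ι
      haveI : IsAffine U.toScheme := hU
      haveI : IsAffine W.subscheme := isAffine_of_isAffineHom l
      letI : W.subscheme.Over (Spec (CommRingCat.of k)) := ⟨W.subschemeι ≫ (X ↘ Spec (CommRingCat.of k))⟩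
      haveI : IsProper (W.subscheme ↘ Spec (CommRingCat.of k)) :=
        inferInstanceAs (IsProper (W.subschemeι ≫ (X ↘ Spec (CommRingCat.of k))))
      letI := (isField_of_universallyClosed k (W.subscheme ↘ Spec (CommRingCat.of k))).toField
      haveI : Subsingleton ↥(Spec Γ(W.subscheme, ⊤)) := inferInstanceAs (Subsingleton (PrimeSpectrum Γ(W.subscheme, ⊤)))
      haveI : Subsingleton ↥W.subscheme := W.subscheme.isoSpec.hom.isOpenEmbedding.injective.subsingleton
      rw [← hrange] at hξC huC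
      obtain ⟨w, hw⟩ := hξC
      obtain ⟨w', hw'⟩ := huC
      exact hξne (by rw [← hw, ← hw', Subsingleton.elim w w'])
    have hCZ2 : ∀ w ∈ C, w ∉ Z₂ := by
      intro w hwC hwZ
      have hw1 : w ∈ U₁ := fun h => hd.ne_of_mem h hwZ rfl
      have hnot : w ∉ X.basicOpen (M'.eval₂ (const k U₁) h1) := fun h =>
        hξf ((specializes_iff_mem_closure.2 hwC).mem_open (X.basicOpen _).2 h)
      rw [Scheme.mem_basicOpen _ _ _ hw1] at hnot
      have hh1 := h1z w hwZ
      rw [Scheme.mem_basicOpen _ _ _ hw1] at hh1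
      refine hnot ?_
      rw [← Polynomial.divX_mul_X_add M', Polynomial.eval₂_add, Polynomial.eval₂_mul, Polynomial.eval₂_C, Polynomial.eval₂_X, map_add]
      have hc : IsUnit (X.presheaf.germ U₁ w hw1 (const k U₁ (M'.coeff 0))) :=
        ((IsUnit.mk0 _ hM'0).map (const k U₁)).map (X.presheaf.germ U₁ w hw1).hom
      have hn : X.presheaf.germ U₁ w hw1 (Polynomial.eval₂ (const k U₁) h1 M'.divX * h1) ∈
          IsLocalRing.maximalIdeal (X.presheaf.stalk w) := by
        rw [map_mul]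
        exact Ideal.mul_mem_left _ _ ((IsLocalRing.mem_maximalIdeal _).2 hh1)
      by_contra hns
      have h' := Ideal.sub_mem _ ((IsLocalRing.mem_maximalIdeal _).2 hns) hn
      rw [add_sub_cancel_left] at h'
      exact (IsLocalRing.mem_maximalIdeal _).1 h' hc
    have hpZ1 : p ∈ Z₁ := ((hu.symm ▸ hpU : p ∈ Z₁ ∪ Z₂)).resolve_right (hCZ2 p hpC)
    exact h2z p hpZ1 ((eval_irreducible k hCc hCirr (V := U₂) hCZ2 h2).1 u huC p hpC hu2)
  have hab : X.basicOpen (a * b) = ⊥ := by
    refine Opens.ext (Set.eq_empty_iff_forall_notMem.2 fun x hx => ?_)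
    obtain ⟨u, hu, huc⟩ := nonempty_inter_closedPoints ⟨x, hx⟩ (X.basicOpen (a * b)).2.isLocallyClosed
    rw [SetLike.mem_coe, Scheme.basicOpen_mul] at hu
    have hua : u ∈ X.basicOpen a := hu.1
    have hub : u ∈ X.basicOpen b := hu.2
    rw [Scheme.basicOpen_res] at hua hub
    exact hpt u huc hua.2 hua.1 hub.2
  rcases mul_eq_zero.1 ((basicOpen_eq_bot_iff _).1 hab) with h0 | h0
  · exact h1ne (map_injective_of_isIntegral X (homOfLE hU1) (h0.trans (map_zero _).symm))
  · exact h2ne (map_injective_of_isIntegral X (homOfLE hU2) (h0.trans (map_zero _).symm))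

end Groth.Agent.ConnCompl

noncomputable section

namespace Groth.Agent.ConnCompl

open AlgebraicGeometry TopologicalSpace

/-- The version for a proper integral scheme of dimension at least two. -/
theorem isConnected_compl (k : Type u) [Field k] {X : Scheme.{u}} [X.Over (Spec (CommRingCat.of k))]
    [IsProper (X ↘ Spec (CommRingCat.of k))] [IsIntegral X] (hdim : (2 : WithBot ℕ∞) ≤ topologicalKrullDim X)
    (U : X.Opens) (hU : IsAffineOpen U) (hUX : U ≠ ⊤) : IsConnected ((U : Set X)ᶜ) := by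
  rcases (U : Set X).eq_empty_or_nonempty with h | h
  · rw [h, Set.compl_empty]
    exact isConnected_univ
  · refine main k (fun x hx => ?_) U hU h hUX
    rw [Groth.Agent.SmoothReg.ringKrullDim_stalk_closedPoint (f := X ↘ Spec (CommRingCat.of k)) hx]
    exact hdim

/-- The version for a proper irreducible scheme of dimension two. -/
theorem isConnected_compl_irreducible (k : Type u) [Field k] {X : Scheme.{u}} (p : X ⟶ Spec (CommRingCat.of k))
    [IsProper p] [IrreducibleSpace X] (hdim : topologicalKrullDim X = 2)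
    (U : X.Opens) (hUa : IsAffineOpen U) : IsConnected ((U : Set X)ᶜ) := by
  let W : X.IdealSheafData := Scheme.IdealSheafData.vanishingIdeal ⟨Set.univ, isClosed_univ⟩
  haveI : IsIntegral W.subscheme := isIntegral_vanishing isClosed_univ (IrreducibleSpace.isIrreducible_univ X)
  have hrange : Set.range W.subschemeι = Set.univ := by
    rw [Scheme.IdealSheafData.range_subschemeι, Scheme.IdealSheafData.coe_support_vanishingIdeal]
    rfl
  have hhom : IsHomeomorph W.subschemeι := isHomeomorph_iff_isEmbedding_surjective.2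
    ⟨W.subschemeι.isClosedEmbedding.isEmbedding, Set.range_eq_univ.1 hrange⟩
  letI : W.subscheme.Over (Spec (CommRingCat.of k)) := ⟨W.subschemeι ≫ p⟩
  haveI : IsProper (W.subscheme ↘ Spec (CommRingCat.of k)) := inferInstanceAs (IsProper (W.subschemeι ≫ p))
  have hd : (2 : WithBot ℕ∞) ≤ topologicalKrullDim W.subscheme := by
    rw [IsHomeomorph.topologicalKrullDim_eq _ hhom, hdim]
  have hne : (W.subschemeι ⁻¹ᵁ U : W.subscheme.Opens) ≠ ⊤ := fun h => by
    have ha : IsAffineOpen (⊤ : W.subscheme.Opens) := h ▸ hUa.preimage W.subschemeι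
    haveI : IsAffine (⊤ : W.subscheme.Opens).toScheme := ha
    haveI : IsAffine W.subscheme := IsAffine.of_isIso W.subscheme.topIso.inv
    letI := (isField_of_universallyClosed k (W.subscheme ↘ Spec (CommRingCat.of k))).toField
    haveI : Subsingleton ↥(Spec Γ(W.subscheme, ⊤)) := inferInstanceAs (Subsingleton (PrimeSpectrum Γ(W.subscheme, ⊤)))
    haveI : Subsingleton ↥W.subscheme := W.subscheme.isoSpec.hom.isOpenEmbedding.injective.subsingleton
    have h0 : topologicalKrullDim W.subscheme ≤ 0 := topologicalKrullDim_zero_of_discreteTopology W.subscheme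
    exact absurd (hd.trans h0) (by decide)
  have h := (isConnected_compl k hd _ (hUa.preimage W.subschemeι) hne).image _ W.subschemeι.continuous.continuousOn
  rwa [Scheme.Hom.coe_preimage, ← Set.preimage_compl, Set.image_preimage_eq _ (Set.range_eq_univ.1 hrange)] at h

end Groth.Agent.ConnCompl
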