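import Groth.Agent.ConnCompl.Basic
import Groth.Agent.DepthTwist.Connected
import Groth.Agent.Lib.AmpleImmersion

/-! The support of an ample divisor is connected. -/

noncomputable section

set_option linter.style.haveILetI false
set_option backward.isDefEq.respectTransparency false
set_option backward.isDefEq.respectTransparency.types false

universe u

open CategoryTheory CategoryTheory.Limits AlgebraicGeometry TopologicalSpace

namespace Groth.Agent.ConnCompl

open Groth.Agent

theorem connectedSpace_zeroScheme (k : Type u) [Field k] {X : Scheme.{u}} [X.Over (Spec (CommRingCat.of k))]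
    [IsProper (X ↘ Spec (CommRingCat.of k))] [IsIntegral X] (hdim : (2 : WithBot ℕ∞) ≤ topologicalKrullDim X)
    {L : X.Modules} (hL : CohB1.IsAmple L) (s : Coh.structureModule X ⟶ L) :
    ConnectedSpace ↥(PicF2.zeroScheme L s).subscheme := by
  have hsupp : ((PicF2.zeroScheme L s).support : Set X) = ((CohB1.genLocus L s : X.Opens) : Set X)ᶜ :=
    Set.ext fun x => DepthTwist.mem_support_zeroScheme_iff hL.1 s x
  have haff := AmpleEmbed.isAffineOpen_genLocus (X ↘ Spec (CommRingCat.of k)) hL s
  have hne : CohB1.genLocus L s ≠ ⊤ := fun h => by
    haveI : IsAffine (⊤ : X.Opens).toScheme := h ▸ haff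
    haveI : IsAffine X := IsAffine.of_isIso X.topIso.inv
    letI := (isField_of_universallyClosed k (X ↘ Spec (CommRingCat.of k))).toField
    haveI : Subsingleton ↥(Spec Γ(X, ⊤)) := inferInstanceAs (Subsingleton (PrimeSpectrum Γ(X, ⊤)))
    haveI : Subsingleton ↥X := X.isoSpec.hom.isOpenEmbedding.injective.subsingleton
    exact absurd (hdim.trans (topologicalKrullDim_zero_of_discreteTopology X)) (by decide)
  have hc : _root_.IsConnected (Set.range (PicF2.zeroScheme L s).subschemeι) := by
    rw [Scheme.IdealSheafData.range_subschemeι, hsupp]
    exact isConnected_compl k hdim _ haff hne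
  haveI := isConnected_iff_connectedSpace.1 hc
  exact (PicF2.zeroScheme L s).subschemeι.isClosedEmbedding.isEmbedding.toHomeomorph.symm.surjective.connectedSpace
    (Homeomorph.continuous _)

end Groth.Agent.ConnCompl
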